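import Cfsg.Agent.ThreeTransposition.Unique.Base

/-!
A class over the image of a class of 3-transpositions differs from it only inside the commutator spaces.
-/

set_option autoImplicit false

namespace Cfsg.Lib.TTUnique

variable {Γ A : Type*} [Group Γ] [AddCommGroup A] [DistribMulAction Γ A]

namespace Transp

variable {D : Set Γ}

theorem lift_mem_W (h2 : ∀ a : A, a + a = 0) (hD : Transp A D) (L : Γ → A → Prop)
    (hmem : ∀ δ v, L δ v → δ ∈ D ∧ δ • v = v)
    (hequiv : ∀ (g δ : Γ) (v : A), L δ v → L (g * δ * g⁻¹) (g • v))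
    (hdiff : ∀ δ v v', L δ v → L δ v' → v + v' ∈ W A δ)
    (hadd : ∀ δ v, L δ v → ∀ w ∈ W A δ, L δ (v + w))
    (hcomm : ∀ δ v α u, L δ v → L α u → Commute δ α → u + δ • u = v + α • v)
    (hfix : ∀ r : A, (∀ a ∈ D, a • r = r) → r = 0)
    (hnbr : ∀ δ ∈ D, ∃ y ∈ D, ¬ Commute δ y)
    {δ : Γ} {v : A} (hL : L δ v) : v ∈ W A δ := by
  -- a representative is fixed by the commuting members
  have hperp : ∀ δ v, L δ v → ∀ a ∈ D, Commute δ a → a • v = v := by
    intro δ v hL a ha hc
    obtain ⟨hδ, hδv⟩ := hmem δ v hL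
    by_cases he : δ = a
    · rw [← he]; exact hδv
    obtain ⟨g, hg⟩ := hD.trans δ hδ a ha
    have hLa := hequiv g δ v hL
    rw [hg] at hLa
    have h := hcomm δ v a _ hL hLa hc
    have := hD.inter hδ ha he (v := v + a • v) (by rw [← h]; exact ⟨_, rfl⟩) ⟨v, rfl⟩
    exact (eq_of_add h2 this).symm
  obtain ⟨hd, hdv⟩ := hmem δ v hL
  obtain ⟨y, hy, hdy⟩ := hnbr δ hd
  obtain ⟨x, hx⟩ : ∃ x, x = δ * y := ⟨_, rfl⟩
  have dd := hD.invol δ hd
  have x3 : x ^ 3 = 1 := hx ▸ hD.cube δ hd y hy hdy
  have hdx : δ * x * δ⁻¹ = x⁻¹ := hx ▸ hD.inverts_left hd hy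
  set r := tr x v with hr
  have hxr : x • r = r := smul_tr h2 x3 v
  have hδr : δ • r = r := hD.fixed_left h2 hd hy hdy (hx ▸ hxr)
  have hyr : y • r = r := hD.fixed_right h2 hd hy hdy (hx ▸ hxr)
  have hvr : v + r ∈ W A δ := by
    refine ⟨x • v, ?_⟩
    have e : δ • x • v = x • x • v := by
      have e' : δ * x = x⁻¹ * δ := by rw [← hdx]; group
      rw [← mul_smul, e', mul_smul, hdv, show x⁻¹ = x * x from
        inv_eq_of_mul_eq_one_left (by rw [← x3]; simp [pow_succ, mul_assoc]), mul_smul]
    rw [e, hr, tr]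
    calc v + (v + x • v + x • x • v) = (v + v) + (x • v + x • x • v) := by abel
      _ = _ := by rw [h2, zero_add]
  have hLr : L δ r := by
    have := hadd δ v hL _ hvr
    rwa [← add_assoc, h2, zero_add] at this
  have hLy : L y r := by
    have := hequiv x δ r hLr
    have e : x * δ * x⁻¹ = y := by
      rw [hx, mul_inv_rev, hD.inv hd, hD.inv hy]
      calc δ * y * δ * (y * δ) = (δ * y * δ) * (y * δ) := rfl
        _ = y * δ * y * (y * δ) := by rw [hD.braid hd hy hdy]
        _ = y * δ * (y * y) * δ := by simp only [mul_assoc]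
        _ = y := by rw [hD.invol y hy, mul_one, mul_assoc, dd, mul_one]
    rwa [e, hxr] at this
  set b := δ * y * δ with hbdef
  have hb : b ∈ D := hD.conj' dd hy
  have hbr : b • r = r := by rw [hbdef, mul_smul, mul_smul, hδr, hyr, hδr]
  have hLb : L b r := by
    have := hequiv δ y r hLy
    rwa [hD.inv hd, ← hbdef, hδr] at this
  have hall : ∀ a ∈ D, a • r = r := by
    intro a ha
    by_cases hca : Commute δ a
    · exact hperp δ r hLr a ha hca
    by_cases hcy : Commute y a
    · exact hperp y r hLy a ha hcy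
    by_cases hcb : Commute b a
    · exact hperp b r hLb a ha hcb
    obtain ⟨t, ht⟩ : ∃ t, t = δ * a := ⟨_, rfl⟩
    have t3 : t ^ 3 = 1 := ht ▸ hD.cube δ hd a ha hca
    have hdt : δ * t * δ⁻¹ = t⁻¹ := ht ▸ hD.inverts_left hd ha
    obtain ⟨hsx, hst, -⟩ := heisenberg x3 t3
      (by
        have : x * t = b * a := by rw [hx, ht, hbdef]; simp only [mul_assoc]
        rw [this]; exact hD.cube b hb a ha hcb)
      (by
        have : x⁻¹ * t = y * a := by
          rw [hx, ht, mul_inv_rev, hD.inv hd, hD.inv hy, mul_assoc, ← mul_assoc δ δ a, dd, one_mul]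
        rw [this]; exact hD.cube y hy a ha hcy)
    set s := x⁻¹ * t⁻¹ * x * t with hsdef
    have hxs : x * t = t * x * s := by rw [hsdef]; group
    have hds : Commute δ s := by
      have h1 : δ * s * δ⁻¹ = s := by
        calc δ * s * δ⁻¹ = (δ * x * δ⁻¹)⁻¹ * (δ * t * δ⁻¹)⁻¹ * (δ * x * δ⁻¹) * (δ * t * δ⁻¹) := by
              rw [hsdef]; group
          _ = x * t * x⁻¹ * t⁻¹ := by rw [hdx, hdt, inv_inv, inv_inv]
          _ = (t * x) * s * (t * x)⁻¹ := by rw [hxs]; group
          _ = s := by rw [← (hst.mul_right hsx).eq]; group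
      show δ * s = s * δ
      conv_rhs => rw [← h1]
      group
    -- the central element fixes the representative
    have hsr : s • r = r := by
      have hL' : L δ (s • r) := by
        have := hequiv s δ r hLr
        rwa [← hds.eq, mul_inv_cancel_right] at this
      have hw := hdiff δ r _ hLr hL'
      have hxfix : x • (r + s • r) = r + s • r := by
        rw [smul_add, hxr, ← mul_smul, ← hsx.eq, mul_smul, hxr]
      have := hD.free δ hd y hy hdy _ hw (hD.fixed_right h2 hd hy hdy (hx ▸ hxfix))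
      exact (eq_of_add h2 this).symm
    have e1 : x • t • r = t • r := by rw [← mul_smul, hxs, mul_smul, mul_smul, hsr, hxr]
    have e2 : x • t • t • r = t • t • r := by
      have hs' : ∀ k : Γ, Commute s k → s • k • r = k • r := fun k hk => by rw [← mul_smul, hk.eq, mul_smul, hsr]
      rw [← mul_smul x t, hxs, mul_smul, mul_smul, hs' t hst, e1]
    have hw : t • r + t • t • r ∈ W A δ := by
      refine ⟨t • r, ?_⟩
      have e' : δ * t = t⁻¹ * δ := by rw [← hdt]; group
      rw [← mul_smul δ t, e', mul_smul, hδr, show t⁻¹ = t * t from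
        inv_eq_of_mul_eq_one_left (by rw [← t3]; simp [pow_succ, mul_assoc]), mul_smul]
    have h0 := hD.free δ hd y hy hdy _ hw
      (hD.fixed_right h2 hd hy hdy (v := t • r + t • t • r) (by rw [← hx, smul_add, e1, e2]))
    have htr : t • r = r := by
      have := eq_of_add h2 h0
      have h' := congrArg (t⁻¹ • ·) this
      simp only [inv_smul_smul] at h'
      exact h'.symm
    exact hD.fixed_right h2 hd ha hca (ht ▸ htr)
  rw [hfix r hall, add_zero] at hvr
  exact hvr

end Transp

end Cfsg.Lib.TTUnique
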