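import Cfsg.Agent.ThreeTransposition.Unique.Meet
import Cfsg.Agent.ThreeTransposition.Unique.Lift
import Cfsg.Agent.ThreeTransposition.Radical

/-!
A group whose 2-radical is an elementary abelian generalized Fitting subgroup and whose centre is trivial
has at most one generating class of 3-transpositions.
-/

set_option autoImplicit false

namespace Cfsg.Lib.TTUnique

open Cfsg Subgroup
open scoped IsMulCommutative

variable {G : Type*} [Group G]

section radical

variable (V : Subgroup G) [V.Normal] [IsMulCommutative V]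

/-- The action by conjugation on the radical. -/
noncomputable abbrev rho : G →* MulAut V := MulAut.conjNormal

/-- The automorphisms induced on the radical act on its additive form. -/
noncomputable instance rangeAction : DistribMulAction (rho V).range (Additive V) where
  smul g v := Additive.ofMul (g.1 (Additive.toMul v))
  one_smul _ := rfl
  mul_smul _ _ _ := rfl
  smul_zero g := map_one g.1
  smul_add g v w := map_mul g.1 (Additive.toMul v) (Additive.toMul w)

instance rangeAction_faithful : FaithfulSMul (rho V).range (Additive V) :=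
  ⟨fun {g h} hgh => Subtype.ext (MulEquiv.ext fun u => hgh (Additive.ofMul u))⟩

/-- An element of the radical from its additive form. -/
def el (v : Additive V) : G := ((Additive.toMul v : V) : G)

theorem el_mem (v : Additive V) : el V v ∈ V := (Additive.toMul v : V).2

theorem el_add (v w : Additive V) : el V (v + w) = el V v * el V w := rfl

theorem el_inj {v w : Additive V} (h : el V v = el V w) : v = w := by
  have : (Additive.toMul v : V) = Additive.toMul w := Subtype.ext h
  exact Additive.toMul.injective this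

theorem el_smul (g : (rho V).range) (g' : G) (hg : rho V g' = g.1) (v : Additive V) :
    el V (g • v) = g' * el V v * g'⁻¹ := by
  have : g • v = Additive.ofMul (rho V g' (Additive.toMul v)) := by rw [hg]; rfl
  rw [this]
  show ((MulAut.conjNormal g' (Additive.toMul v) : V) : G) = _
  rw [MulAut.conjNormal_apply]
  rfl

end radical

variable [Finite G]

theorem unique_class {D E : Set G} (hD : IsThreeTranspositionClass D) (hE : IsThreeTranspositionClass E)
    (hZ : center G = ⊥) (hF : generalizedFittingSubgroup G = pCore 2 G)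
    (hV : IsElementaryAbelian 2 (pCore 2 G)) : E = D := by
  classical
  haveI := (Cfsg.Lib.Components.pCore_normal_and_isPGroup (G := G) 2).1
  haveI : IsMulCommutative (pCore 2 G) := hV.1
  set V := pCore 2 G with hVdef
  have hsq : ∀ u ∈ V, u * u = 1 := fun u hu => by rw [← sq]; exact hV.2 u hu
  have hinvV : ∀ u ∈ V, u⁻¹ = u := fun u hu => inv_eq_of_mul_eq_one_left (hsq u hu)
  have hcommV : ∀ u ∈ V, ∀ w ∈ V, Commute u w := fun u hu w hw =>
    congrArg Subtype.val (hV.1.is_comm.comm ⟨u, hu⟩ ⟨w, hw⟩)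
  have h2 : ∀ a : Additive V, a + a = 0 := fun a => el_inj V (by rw [el_add]; exact hsq _ (el_mem V a))
  -- the kernel of the action
  have hker : ∀ g : G, rho V g = 1 ↔ g ∈ V := by
    intro g
    constructor
    · intro h
      refine hF ▸ Cfsg.Lib.Components.centralizer_genFitting_le (G := G) ?_
      rw [hF, mem_centralizer_iff]
      intro u hu
      have h1 := DFunLike.congr_fun h ⟨u, hu⟩
      have h2' : g * u * g⁻¹ = u := congrArg Subtype.val h1
      calc u * g = g * u * g⁻¹ * g := by rw [h2']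
        _ = g * u := by rw [inv_mul_cancel_right]
    · intro hg
      refine MulEquiv.ext fun v => Subtype.ext ?_
      rw [MulAut.conjNormal_apply, (hcommV g hg _ v.2).eq, mul_inv_cancel_right]
      rfl
  have hcong : ∀ g h : G, rho V g = rho V h → g⁻¹ * h ∈ V := fun g h e => by
    rw [← hker, map_mul, map_inv, e, inv_mul_cancel]
  set ρ := (rho V).rangeRestrict with hρ
  have hρsurj : Function.Surjective ρ := (rho V).rangeRestrict_surjective
  have hρel : ∀ (g : G) (v : Additive V), el V (ρ g • v) = g * el V v * g⁻¹ := fun g v => el_smul V _ g rfl v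
  have hρcong : ∀ g h : G, ρ g = ρ h → g⁻¹ * h ∈ V := fun g h e => hcong g h (congrArg Subtype.val e)
  have hρV : ∀ u ∈ V, ρ u = 1 := fun u hu => Subtype.ext ((hker u).2 hu)
  have hG1 : V ≠ ⊤ ∨ center G ≠ ⊥ := by
    by_contra hcon
    push Not at hcon
    obtain ⟨d, hd, -⟩ := hD.2.1
    have hc : d ∈ center G := by
      rw [mem_center_iff]
      exact fun g => hcommV g (hcon.1 ▸ mem_top g) d (hcon.1 ▸ mem_top d)
    rw [hZ, mem_bot] at hc
    have := hD.1.1 d hd
    rw [hc, orderOf_one] at this
    omega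
  have hVtop : V ≠ ⊤ := hG1.resolve_right (fun h => h hZ)
  -- the image of a class
  have key : ∀ C : Set G, IsThreeTranspositionClass C →
      (∀ c ∈ C, c ∉ V) ∧ (∀ c ∈ C, ∀ c' ∈ C, (Commute (ρ c) (ρ c') ↔ Commute c c')) ∧
      (∀ c ∈ C, ∀ c' ∈ C, ∀ w, el V w = c⁻¹ * c' → w ∈ W (Additive V) (ρ c)) ∧
      (∀ c ∈ C, ∀ w ∈ W (Additive V) (ρ c), c * el V w ∈ C) ∧
      Transp (Additive V) (ρ '' C) ∧ (∀ δ ∈ ρ '' C, ∃ y ∈ ρ '' C, ¬ Commute δ y) := by
    intro C hC
    have cc := fun {c : G} (hc : c ∈ C) => ThreeTr.sq_eq_one hC.1 hc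
    have ci := fun {c : G} (hc : c ∈ C) => ThreeTr.inv_eq hC.1 hc
    have hnotV : ∀ c ∈ C, c ∉ V := by
      intro c hc hcV
      refine hVtop (top_le_iff.1 (hC.2.2 ▸ (closure_le V).2 fun x hx => ?_))
      obtain ⟨g, rfl⟩ := ThreeTr.exists_conj hC hc hx
      exact (inferInstance : V.Normal).conj_mem c hcV g
    have hC2 : ∃ a ∈ C, ∃ b ∈ C, a ≠ b := by
      by_contra hcon
      push Not at hcon
      obtain ⟨d, hd, -⟩ := hC.2.1
      have hdc : d ∈ center G := by
        rw [mem_center_iff]
        intro g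
        have hle : closure C ≤ centralizer ({d} : Set G) := by
          rw [closure_le]
          intro x hx
          rw [SetLike.mem_coe, mem_centralizer_singleton_iff, hcon x hx d hd]
        have := hle (hC.2.2 ▸ mem_top g)
        rw [mem_centralizer_singleton_iff] at this
        exact this
      rw [hZ, mem_bot] at hdc
      exact hnotV d hd (hdc ▸ one_mem V)
    have hcomm : ∀ c ∈ C, ∀ c' ∈ C, (Commute (ρ c) (ρ c') ↔ Commute c c') := by
      intro c hc c' hc'
      refine ⟨fun h => ?_, fun h => h.map ρ⟩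
      by_contra hnc
      have h3 := ThreeTr.cube_of_not_commute hC.1 hc hc' hnc
      have hm : (c * c') ^ 2 ∈ V := by
        have : (1 : G)⁻¹ * (c * c') ^ 2 ∈ V := hρcong 1 _ (by
          rw [map_one, map_pow, map_mul, sq, h.symm.mul_mul_mul_comm, ← map_mul, ← map_mul, cc hc, cc hc',
            map_one, one_mul])
        simpa using this
      have := ThreeTr.eq_one_of_sq_mem_pgroup Nat.prime_two (Cfsg.Lib.Components.isPGroup_pCore 2)
        Nat.prime_three (by norm_num) hm (by rw [← pow_mul, mul_comm, pow_mul, h3, one_pow])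
      exact hnc ((ThreeTr.commute_iff_sq (cc hc) (cc hc')).2 this)
    have hmemW : ∀ c ∈ C, ∀ c' ∈ C, ∀ w, el V w = c⁻¹ * c' → w ∈ W (Additive V) (ρ c) := by
      intro c hc c' hc' w hw
      obtain ⟨g, hg, hgc⟩ := ThreeTr.vRel_exists_conj hC hC2 hc hc'
        (ThreeTr.vRel_of_mem_pCore hC hc hc' (hw ▸ el_mem V w))
      refine ⟨Additive.ofMul ⟨g, hg⟩, el_inj V ?_⟩
      have hgm : c * g * c⁻¹ ∈ V := (inferInstance : V.Normal).conj_mem g hg c
      rw [el_add, hρel, hw, ← hgc, hinvV g hg]
      show c⁻¹ * (g * c * g) = g * (c * g * c⁻¹)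
      rw [(hcommV g hg _ hgm).eq]
      rw [ci hc]
      simp only [mul_assoc]
    have hshift : ∀ c ∈ C, ∀ w ∈ W (Additive V) (ρ c), c * el V w ∈ C := by
      rintro c hc w ⟨u, rfl⟩
      have hu := el_mem V u
      have hgm : c * el V u * c⁻¹ ∈ V := (inferInstance : V.Normal).conj_mem _ hu c
      rw [el_add, hρel, (hcommV _ hu _ hgm).eq]
      have : c * (c * el V u * c⁻¹ * el V u) = el V u * c * (el V u)⁻¹ := by
        rw [ci hc, hinvV _ hu]
        simp only [← mul_assoc, cc hc, one_mul]
      rw [this]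
      exact ThreeTr.conj_mem hC _ hc
    have hnbr : ∀ δ ∈ ρ '' C, ∃ y ∈ ρ '' C, ¬ Commute δ y := by
      rintro _ ⟨c, hc, rfl⟩
      obtain ⟨e, he, hne⟩ := ThreeTr.exists_not_commute hC hC2 hc
      exact ⟨ρ e, ⟨e, he, rfl⟩, fun h => hne ((hcomm c hc e he).1 h)⟩
    refine ⟨hnotV, hcomm, hmemW, hshift, ⟨?_, ?_, ?_, ?_, ?_, ?_, ?_, ?_⟩, hnbr⟩
    · rintro _ ⟨c, hc, rfl⟩; rw [← map_mul, cc hc, map_one]
    · rintro _ ⟨c, hc, rfl⟩ h
      exact hnotV c hc ((hker c).1 (congrArg Subtype.val h))
    · rintro g _ ⟨c, hc, rfl⟩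
      obtain ⟨g, rfl⟩ := hρsurj g
      exact ⟨g * c * g⁻¹, ThreeTr.conj_mem hC g hc, by simp⟩
    · rintro _ ⟨c, hc, rfl⟩ _ ⟨c', hc', rfl⟩
      obtain ⟨g, rfl⟩ := ThreeTr.exists_conj hC hc hc'
      exact ⟨ρ g, by simp⟩
    · rintro _ ⟨c, hc, rfl⟩ _ ⟨c', hc', rfl⟩ h
      rw [← map_mul, ← map_pow, ThreeTr.cube_of_not_commute hC.1 hc hc' (fun h' => h (h'.map ρ)), map_one]
    · rintro _ ⟨c, hc, rfl⟩ _ ⟨y, hy, rfl⟩ hcy v hv
      have hc' := hshift c hc v hv
      have hrel := ThreeTr.vRel_of_mem_pCore hC hc hc' (by rw [inv_mul_cancel_left]; exact el_mem V v)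
      have hyc : Commute y c := ((hcomm c hc y hy).1 hcy).symm
      have hyc' : Commute y (c * el V v) := ((hrel y hy).2 hyc.symm).symm
      have hyv : Commute y (el V v) := by
        have := hyc.inv_right.mul_right hyc'
        rwa [inv_mul_cancel_left] at this
      refine el_inj V ?_
      rw [hρel, hyv.eq, mul_inv_cancel_right]
    · rintro _ ⟨c, hc, rfl⟩ _ ⟨y, hy, rfl⟩ hcy v hv hfix
      have hc' := hshift c hc v hv
      have hrel := ThreeTr.vRel_of_mem_pCore hC hc hc' (by rw [inv_mul_cancel_left]; exact el_mem V v)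
      have hnc : ¬ Commute y c := fun h => hcy (h.symm.map ρ)
      have hnc' : ¬ Commute y (c * el V v) := fun h => hnc ((hrel y hy).1 h.symm).symm
      have hyv : Commute y (el V v) := by
        have := congrArg (el V) hfix
        rw [hρel] at this
        exact eq_mul_of_mul_inv_eq this
      have hcv : Commute c (el V v) := by
        have := congrArg (el V) (W.smul_self h2 (by rw [← map_mul, cc hc, map_one]) hv)
        rw [hρel] at this
        exact eq_mul_of_mul_inv_eq this
      have h3 := ThreeTr.cube_of_not_commute hC.1 hy hc' hnc'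
      rw [← mul_assoc, (hyv.mul_left hcv).mul_pow, ThreeTr.cube_of_not_commute hC.1 hy hc hnc, one_mul,
        pow_succ, sq, hsq _ (el_mem V v), one_mul] at h3
      exact el_inj V h3
    · rintro _ ⟨c, hc, rfl⟩ _ ⟨c', hc', rfl⟩ h
      have hrel : ThreeTr.VRel C c c' := fun e he => by
        rw [← hcomm c hc e he, ← hcomm c' hc' e he]
        exact h _ ⟨e, he, rfl⟩
      have := hρV _ (ThreeTr.vRel_mem_pCore hC hc hc' hrel)
      rw [map_mul, mul_eq_one_iff_eq_inv] at this
      rw [this, ← map_inv, ci hc']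
  obtain ⟨-, hcommD, hmemD, hshiftD, hTD, hnbrD⟩ := key D hD
  obtain ⟨-, hcommE, hmemE, -, hTE, -⟩ := key E hE
  have hgen : closure (ρ '' D) = ⊤ := by
    rw [← MonoidHom.map_closure, hD.2.2, map_top_of_surjective ρ hρsurj]
  have hcen : ∀ c : (rho V).range, c * c = 1 → c ∈ center (rho V).range → c = 1 := by
    intro c hc2 hc
    obtain ⟨g, rfl⟩ := hρsurj c
    set N := (center (rho V).range).comap ρ with hN
    have hgN : g ∈ N := hc
    -- the elements over the central involution form a normal 2-subgroup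
    set M := V ⊔ zpowers g with hM
    haveI hMn : M.Normal := by
      refine ⟨fun m hm k => ?_⟩
      have : (MulAut.conj k).toMonoidHom m ∈ M := by
        have hle : M ≤ M.comap (MulAut.conj k).toMonoidHom := by
          rw [hM]
          refine sup_le (fun u hu => mem_sup_left ((inferInstance : V.Normal).conj_mem u hu k)) ?_
          rw [zpowers_le]
          show k * g * k⁻¹ ∈ V ⊔ zpowers g
          have h1 : g⁻¹ * (k * g * k⁻¹) ∈ V := hρcong _ _ (by
            rw [map_mul, map_mul, map_inv, ← (mem_center_iff.1 hc (ρ k)).symm, mul_inv_cancel_right])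
          have := mul_mem (mem_sup_right (S := V) (mem_zpowers g)) (mem_sup_left (T := zpowers g) h1)
          rwa [mul_inv_cancel_left] at this
        exact hle hm
      exact this
    have hg2 : g * g ∈ V := by
      have := hρcong 1 (g * g) (by rw [map_one, map_mul, hc2])
      simpa using this
    have hp : IsPGroup 2 M := by
      intro m
      obtain ⟨u, hu, z, hz, hm⟩ := (mem_sup_of_normal_left).1 m.2
      obtain ⟨i, rfl⟩ := mem_zpowers_iff.1 hz
      have hsqV : (m : G) * m ∈ V := by
        rw [← hm, ← hker]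
        have hu1 : rho V u = 1 := (hker u).2 hu
        simp only [map_mul, hu1, one_mul, map_zpow]
        rw [← (Commute.refl (rho V g)).mul_zpow, ← map_mul, (hker _).2 hg2, one_zpow]
      refine ⟨2, Subtype.ext ?_⟩
      rw [SubgroupClass.coe_pow, OneMemClass.coe_one, show (2 ^ 2 : ℕ) = 2 * 2 by norm_num, pow_mul, sq, sq]
      exact hsq _ hsqV
    have hgV : g ∈ V := le_sSup (show M ∈ {K : Subgroup G | K.Normal ∧ IsPGroup 2 K} from ⟨hMn, hp⟩)
      (mem_sup_right (mem_zpowers g))
    exact hρV g hgV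
  obtain ⟨δ, hδD, hδE⟩ := Transp.meet h2 hTD hTE hgen hcen (by
    obtain ⟨e, he, -⟩ := hE.2.1; exact ⟨ρ e, e, he, rfl⟩)
  obtain ⟨d, hd, hdδ⟩ := hδD
  obtain ⟨e, he, heδ⟩ := hδE
  have hde := hρcong d e (hdδ.trans heδ.symm)
  set v : Additive V := Additive.ofMul ⟨d⁻¹ * e, hde⟩ with hv
  have hfix : ∀ r : Additive V, (∀ a ∈ ρ '' D, a • r = r) → r = 0 := by
    intro r hr
    refine el_inj V ?_
    show el V r = 1
    rw [← mem_bot, ← hZ, mem_center_iff]
    intro g
    have hle : closure D ≤ centralizer ({el V r} : Set G) := by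
      rw [closure_le]
      intro a ha
      rw [SetLike.mem_coe, mem_centralizer_singleton_iff]
      have := congrArg (el V) (hr _ ⟨a, ha, rfl⟩)
      rw [hρel] at this
      exact eq_mul_of_mul_inv_eq this
    have := hle (hD.2.2 ▸ mem_top g)
    rw [mem_centralizer_singleton_iff] at this
    exact this
  have hvW : v ∈ W (Additive V) (ρ d) := by
    refine Transp.lift_mem_W h2 hTD (fun δ v => ∃ d ∈ D, ρ d = δ ∧ d * el V v ∈ E) ?_ ?_ ?_ ?_ ?_ hfix hnbrD
      ⟨d, hd, rfl, ?_⟩
    · rintro δ w ⟨d', hd', rfl, hw⟩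
      refine ⟨⟨d', hd', rfl⟩, el_inj V ?_⟩
      rw [hρel, ThreeTr.inv_eq hD.1 hd']
      have := ThreeTr.sq_eq_one hE.1 hw
      have h' := eq_inv_of_mul_eq_one_left
        (show d' * el V w * d' * el V w = 1 by simpa only [mul_assoc] using this)
      rw [h', hinvV _ (el_mem V w)]
    · rintro g δ w ⟨d', hd', rfl, hw⟩
      obtain ⟨g, rfl⟩ := hρsurj g
      refine ⟨g * d' * g⁻¹, ThreeTr.conj_mem hD g hd', by simp, ?_⟩
      have := ThreeTr.conj_mem hE g hw
      rw [hρel]
      convert this using 1
      group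
    · rintro δ w w' ⟨d₁, hd₁, rfl, hw⟩ ⟨d₂, hd₂, h12, hw'⟩
      have hdd : d₁⁻¹ * d₂ ∈ V := hρcong _ _ h12.symm
      set a : Additive V := Additive.ofMul ⟨d₁⁻¹ * d₂, hdd⟩ with ha
      have haW : a ∈ W (Additive V) (ρ d₁) := hmemD d₁ hd₁ d₂ hd₂ a rfl
      have hρw : ρ (d₁ * el V w) = ρ d₁ := by rw [map_mul, hρV _ (el_mem V w), mul_one]
      have hsum : w + a + w' ∈ W (Additive V) (ρ (d₁ * el V w)) := by
        refine hmemE _ hw _ hw' _ ?_
        rw [el_add, el_add, mul_inv_rev, hinvV _ (el_mem V w)]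
        show el V w * (d₁⁻¹ * d₂) * el V w' = _
        simp only [mul_assoc]
      rw [hρw] at hsum
      have := W.add_mem h2 hsum haW
      have e' : w + a + w' + a = w + w' := by
        calc w + a + w' + a = w + w' + (a + a) := by abel
          _ = _ := by rw [h2, add_zero]
      rwa [e'] at this
    · rintro δ w ⟨d', hd', rfl, hw⟩ u hu
      refine ⟨d' * el V u, hshiftD d' hd' u hu, by rw [map_mul, hρV _ (el_mem V u), mul_one], ?_⟩
      have : d' * el V u * el V (w + u) = d' * el V w := by
        rw [add_comm, el_add, mul_assoc, ← mul_assoc (el V u) (el V u), hsq _ (el_mem V u), one_mul]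
      rw [this]; exact hw
    · rintro δ w α u ⟨d', hd', rfl, hw⟩ ⟨a, ha, rfl, hu⟩ hc
      have hda : Commute d' a := (hcommD d' hd' a ha).1 hc
      have hρ1 : ρ (d' * el V w) = ρ d' := by rw [map_mul, hρV _ (el_mem V w), mul_one]
      have hρ2 : ρ (a * el V u) = ρ a := by rw [map_mul, hρV _ (el_mem V u), mul_one]
      have hee : Commute (d' * el V w) (a * el V u) :=
        (hcommE _ hw _ hu).1 (by rw [hρ1, hρ2]; exact hc)
      have key' : ρ a • w + u = ρ d' • u + w := by
        refine el_inj V ?_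
        rw [el_add, el_add, hρel, hρel]
        have ai := ThreeTr.inv_eq hD.1 ha
        have di := ThreeTr.inv_eq hD.1 hd'
        refine mul_left_cancel (a := d' * a) ?_
        calc d' * a * (a * el V w * a⁻¹ * el V u) = d' * el V w * (a * el V u) := by
              rw [ai]; simp only [← mul_assoc]; rw [mul_assoc d' a a, ThreeTr.sq_eq_one hD.1 ha, mul_one]
          _ = a * el V u * (d' * el V w) := hee.eq
          _ = d' * a * (d' * el V u * d'⁻¹ * el V w) := by
              rw [hda.eq, di]; simp only [← mul_assoc]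
              rw [mul_assoc a d' d', ThreeTr.sq_eq_one hD.1 hd', mul_one]
      calc u + ρ d' • u = (ρ d' • u + w) + (u + w) + 0 := by
            rw [add_zero]
            calc u + ρ d' • u = ρ d' • u + u + (w + w) := by rw [h2, add_zero, add_comm]
              _ = _ := by abel
        _ = (ρ a • w + u) + (u + w) := by rw [key', add_zero]
        _ = w + ρ a • w + (u + u) := by abel
        _ = _ := by rw [h2, add_zero]
    · show d * (d⁻¹ * e) ∈ E
      rwa [mul_inv_cancel_left]
  have hedD : e ∈ D := by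
    have := hshiftD d hd v hvW
    rwa [show d * el V v = e from mul_inv_cancel_left d e] at this
  ext y
  constructor
  · intro hy
    obtain ⟨g, rfl⟩ := ThreeTr.exists_conj hE he hy
    exact ThreeTr.conj_mem hD g hedD
  · intro hy
    obtain ⟨g, rfl⟩ := ThreeTr.exists_conj hD hedD hy
    exact ThreeTr.conj_mem hE g he

end Cfsg.Lib.TTUnique
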