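import Mathlib

/-!
Sets of 3-transpositions acting faithfully on an elementary abelian 2-group, in the way in which the
image of a generating class acts on the 2-radical.
-/

set_option autoImplicit false

namespace Cfsg.Lib.TTUnique

variable {Γ A : Type*} [Group Γ] [AddCommGroup A] [DistribMulAction Γ A]

/-- The commutator space of an element. -/
def W (A : Type*) [AddCommGroup A] [DistribMulAction Γ A] (d : Γ) : Set A :=
  {v | ∃ u : A, v = u + d • u}

/-- The trace of an element of order three. -/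
def tr (g : Γ) (v : A) : A := v + g • v + g • g • v

/-- What the image of a generating class of 3-transpositions satisfies on the 2-radical. -/
structure Transp (A : Type*) [AddCommGroup A] [DistribMulAction Γ A] (D : Set Γ) : Prop where
  invol : ∀ d ∈ D, d * d = 1
  ne_one : ∀ d ∈ D, d ≠ 1
  conj : ∀ (g : Γ), ∀ d ∈ D, g * d * g⁻¹ ∈ D
  trans : ∀ d ∈ D, ∀ e ∈ D, ∃ g : Γ, g * d * g⁻¹ = e
  cube : ∀ d ∈ D, ∀ e ∈ D, ¬ Commute d e → (d * e) ^ 3 = 1
  fix : ∀ d ∈ D, ∀ y ∈ D, Commute d y → ∀ v ∈ W A d, y • v = v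
  free : ∀ d ∈ D, ∀ y ∈ D, ¬ Commute d y → ∀ v ∈ W A d, y • v = v → v = 0
  same : ∀ d ∈ D, ∀ y ∈ D, (∀ a ∈ D, Commute d a ↔ Commute y a) → d = y

theorem inv_of_invol {u : Γ} (h : u * u = 1) : u⁻¹ = u := inv_eq_of_mul_eq_one_left h

theorem braid_of_cube {a b : Γ} (ha : a * a = 1) (hb : b * b = 1) (h : (a * b) ^ 3 = 1) :
    a * b * a = b * a * b := by
  have h' : a * b * a * b * a * b = 1 := by rw [← h]; simp [pow_succ, mul_assoc]
  have := eq_inv_of_mul_eq_one_left (show (a * b * a) * (b * a * b) = 1 by simpa only [mul_assoc] using h')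
  simpa [inv_of_invol ha, inv_of_invol hb, mul_assoc] using this

/-- Two elements of order three with both products of order three generate a group of class two. -/
theorem heisenberg {x t : Γ} (hx : x ^ 3 = 1) (ht : t ^ 3 = 1) (h1 : (x * t) ^ 3 = 1) (h2 : (x⁻¹ * t) ^ 3 = 1) :
    Commute (x⁻¹ * t⁻¹ * x * t) x ∧ Commute (x⁻¹ * t⁻¹ * x * t) t ∧ (x⁻¹ * t⁻¹ * x * t) ^ 3 = 1 := by
  have core : ∀ x w : Γ, x ^ 3 = 1 → w ^ 3 = 1 → (x * w) ^ 3 = 1 → (x⁻¹ * w) ^ 3 = 1 →
      Commute x (w * x * w⁻¹) := by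
    intro x w hx hw h1 h2
    simp only [pow_succ, pow_zero, one_mul] at hx hw h1 h2
    have hxi : x⁻¹ = x * x := inv_eq_of_mul_eq_one_left hx
    have hwi : w⁻¹ = w * w := inv_eq_of_mul_eq_one_left hw
    have e1 : w * x * w = x⁻¹ * w⁻¹ * x⁻¹ := by
      calc w * x * w = x⁻¹ * ((x * w) * (x * w) * (x * w)) * w⁻¹ * x⁻¹ := by group
        _ = x⁻¹ * w⁻¹ * x⁻¹ := by rw [h1]; group
    have e2 : w * x⁻¹ * w = x * w⁻¹ * x := by
      calc w * x⁻¹ * w = x * ((x⁻¹ * w) * (x⁻¹ * w) * (x⁻¹ * w)) * w⁻¹ * x := by group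
        _ = x * w⁻¹ * x := by rw [h2]; group
    show x * (w * x * w⁻¹) = w * x * w⁻¹ * x
    calc x * (w * x * w⁻¹) = x * (w * x * w) * w := by rw [hwi]; group
      _ = w⁻¹ * x⁻¹ * w := by rw [e1]; group
      _ = w * (w * x⁻¹ * w) := by rw [hwi]; group
      _ = w * x * w⁻¹ * x := by rw [e2]; group
  have c1 := core x t hx ht h1 h2
  have c2 : Commute t (x * t * x⁻¹) := by
    refine core t x ht hx ?_ ?_
    · have : (t * x) ^ 3 = x⁻¹ * (x * t) ^ 3 * x := by simp [pow_succ]; group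
      rw [this, h1]; group
    · have : t⁻¹ * x = (x⁻¹ * t)⁻¹ := by group
      rw [this, inv_pow, h2, inv_one]
  have d1 : Commute x (t⁻¹ * x * t) := by
    have := (c1.map (MulAut.conj t⁻¹)).symm
    simpa [mul_assoc] using this
  have d2 : Commute t (x⁻¹ * t * x) := by
    have := (c2.map (MulAut.conj x⁻¹)).symm
    simpa [mul_assoc] using this
  refine ⟨?_, ?_, ?_⟩
  · have h := ((Commute.refl x).inv_right.mul_right d1).symm
    simpa [mul_assoc] using h
  · have h := (d2.inv_right.mul_right (Commute.refl t)).symm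
    simpa [mul_assoc] using h
  · have h : Commute x⁻¹ (t⁻¹ * x * t) := d1.inv_left
    have e : x⁻¹ * t⁻¹ * x * t = x⁻¹ * (t⁻¹ * x * t) := by group
    have e' : (t⁻¹ * x * t) ^ 3 = t⁻¹ * x ^ 3 * t := by simp [pow_succ]; group
    rw [e, h.mul_pow, inv_pow, e', hx]; group

section two

variable (h2 : ∀ a : A, a + a = 0)
include h2

theorem W.smul_self {d : Γ} (hd : d * d = 1) {v : A} (hv : v ∈ W A d) : d • v = v := by
  obtain ⟨u, rfl⟩ := hv
  rw [smul_add, ← mul_smul, hd, one_smul, add_comm]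

theorem W.add_mem {d : Γ} {v w : A} (hv : v ∈ W A d) (hw : w ∈ W A d) : v + w ∈ W A d := by
  obtain ⟨u, rfl⟩ := hv
  obtain ⟨u', rfl⟩ := hw
  exact ⟨u + u', by rw [smul_add]; abel⟩

theorem eq_of_add {a b : A} (h : a + b = 0) : a = b := by
  have := congrArg (· + b) h
  simp only [add_assoc, h2, add_zero, zero_add] at this
  exact this

theorem add_cancel_mid (a b : A) : a + b + b = a := by rw [add_assoc, h2, add_zero]

theorem tr_fixed_eq {g : Γ} {v : A} (h : g • v = v) : tr g v = v := by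
  rw [tr, h, h, h2, zero_add]

theorem eq_zero_of_fixed {g : Γ} {v : A} (hN : tr g v = 0) (h : g • v = v) : v = 0 := by
  rwa [tr_fixed_eq h2 h] at hN

/-- The identity which kills a module with four fixed-point-free subgroups of order three. -/
theorem eq_zero_of_four {g h : Γ} (hg : g ^ 3 = 1) (hh : h ^ 3 = 1) (hc : Commute h g) {w : A}
    (s1 : tr g w = 0) (s2 : tr (h * g) w = 0) (s3 : tr (h⁻¹ * g) w = 0)
    (s4 : tr h (g • w) = 0) (s5 : tr h (g • g • w) = 0) : w = 0 := by
  have hi : h⁻¹ = h * h := inv_eq_of_mul_eq_one_left (by rw [← hh]; simp [pow_succ, mul_assoc])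
  have q1 : (h * g) * (h * g) = h * h * (g * g) := hc.symm.mul_mul_mul_comm h g
  have q2 : (h⁻¹ * g) * (h⁻¹ * g) = h * (g * g) := by
    rw [hc.inv_left.symm.mul_mul_mul_comm]
    congr 1
    rw [hi]
    calc h * h * (h * h) = h ^ 3 * h := by simp [pow_succ, mul_assoc]
      _ = h := by rw [hh, one_mul]
  have key : tr g w + tr (h * g) w + tr (h⁻¹ * g) w = (w + w + w) + tr h (g • w) + tr h (g • g • w) := by
    simp only [tr, ← mul_smul]
    rw [q1, q2, hi]
    simp only [mul_assoc]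
    abel
  rw [s1, s2, s3, s4, s5, add_zero, add_zero, add_zero, add_zero, h2, zero_add] at key
  exact key.symm

theorem tr_smul {g k : Γ} (hc : Commute k g) (v : A) : tr g (k • v) = k • tr g v := by
  simp only [tr, smul_add, ← mul_smul]
  rw [hc.eq, (hc.mul_right hc).eq]
  simp only [mul_assoc]

theorem smul_tr {g : Γ} (hg : g ^ 3 = 1) (v : A) : g • tr g v = tr g v := by
  simp only [tr, smul_add, ← mul_smul]
  rw [show g * (g * g) = (1 : Γ) by rw [← hg]; simp [pow_succ, mul_assoc], one_smul]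
  abel

theorem tr_smul_inverting {g u : Γ} (hu : u * g * u⁻¹ = g⁻¹) (hg : g ^ 3 = 1) (v : A) :
    tr g (u • v) = u • tr g v := by
  have hi : g⁻¹ = g * g := inv_eq_of_mul_eq_one_left (by rw [← hg]; simp [pow_succ, mul_assoc])
  have e1 : u * g = g * g * u := by rw [← hi, ← hu]; group
  have e2 : u * (g * g) = g * u := by
    calc u * (g * g) = (u * g) * g := by group
      _ = g * g * (u * g) := by nth_rewrite 1 [e1]; group
      _ = g ^ 3 * (g * u) := by rw [e1]; simp [pow_succ, mul_assoc]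
      _ = g * u := by rw [hg, one_mul]
  simp only [tr, smul_add, ← mul_smul]
  rw [e1, e2]
  simp only [mul_assoc]
  abel

theorem tr_idem {g : Γ} (hg : g ^ 3 = 1) (v : A) : tr g (tr g v) = tr g v :=
  tr_fixed_eq h2 (smul_tr h2 hg v)

theorem tr_smul_self {g : Γ} (hg : g ^ 3 = 1) (v : A) : tr g (g • v) = tr g v := by
  rw [tr_smul h2 (Commute.refl g), smul_tr h2 hg]

/-- A nontrivial element of order three has a nonzero element of trace zero. -/
theorem exists_tr_zero [FaithfulSMul Γ A] {g : Γ} (hg : g ^ 3 = 1) (h1 : g ≠ 1) :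
    ∃ w : A, w ≠ 0 ∧ tr g w = 0 := by
  by_contra hcon
  push Not at hcon
  refine h1 (eq_of_smul_eq_smul fun v : A => ?_)
  have hz : tr g (g • v + v) = 0 := by
    have : tr g (g • v + v) = tr g (g • v) + tr g v := by simp only [tr, smul_add]; abel
    rw [this, tr_smul_self h2 hg, h2]
  rw [one_smul]
  exact eq_of_add h2 (by by_contra hne; exact hcon _ hne hz)

end two

namespace Transp

variable {D : Set Γ} (hD : Transp A D)
include hD

theorem inv {d : Γ} (hd : d ∈ D) : d⁻¹ = d := inv_of_invol (hD.invol d hd)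

theorem conj' {x d : Γ} (hx : x * x = 1) (hd : d ∈ D) : x * d * x ∈ D := by
  have := hD.conj x d hd
  rwa [inv_of_invol hx] at this

theorem braid {d y : Γ} (hd : d ∈ D) (hy : y ∈ D) (h : ¬ Commute d y) : d * y * d = y * d * y :=
  braid_of_cube (hD.invol d hd) (hD.invol y hy) (hD.cube d hd y hy h)

theorem ne_of_not_commute {d y : Γ} (_hd : d ∈ D) (h : ¬ Commute d y) : d ≠ y := fun e => h (e ▸ Commute.refl d)

theorem mul_ne_one {d y : Γ} (hd : d ∈ D) (hy : y ∈ D) (h : ¬ Commute d y) : d * y ≠ 1 := fun e =>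
  hD.ne_of_not_commute hd h (by rw [mul_eq_one_iff_eq_inv.1 e, hD.inv hy])

/-- The inner involution inverts the product. -/
theorem inverts_left {d y : Γ} (hd : d ∈ D) (hy : y ∈ D) : d * (d * y) * d⁻¹ = (d * y)⁻¹ := by
  rw [mul_inv_rev, hD.inv hd, hD.inv hy, ← mul_assoc d d y, hD.invol d hd, one_mul]

theorem inverts_right {d y : Γ} (hd : d ∈ D) (hy : y ∈ D) : y * (d * y) * y⁻¹ = (d * y)⁻¹ := by
  rw [mul_inv_rev, hD.inv hd, hD.inv hy, mul_assoc, mul_assoc, hD.invol y hy, mul_one]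

theorem fixed_left (h2 : ∀ a : A, a + a = 0) {d y : Γ} (hd : d ∈ D) (hy : y ∈ D) (h : ¬ Commute d y) {v : A}
    (hv : (d * y) • v = v) : d • v = v := by
  have e1 : y • v = d • v := by
    conv_rhs => rw [← hv]
    rw [← mul_smul, ← mul_assoc, hD.invol d hd, one_mul]
  have e2 : y • d • v = v := by
    rw [← e1, ← mul_smul, hD.invol y hy, one_smul]
  have hu : v + d • v = 0 := hD.free d hd y hy h _ ⟨v, rfl⟩ (by rw [smul_add, e1, e2, add_comm])
  exact (eq_of_add h2 hu).symm

theorem fixed_right (h2 : ∀ a : A, a + a = 0) {d y : Γ} (hd : d ∈ D) (hy : y ∈ D) (h : ¬ Commute d y) {v : A}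
    (hv : (d * y) • v = v) : y • v = v := by
  have := hD.fixed_left h2 hd hy h hv
  calc y • v = d • (d * y) • v := by rw [← mul_smul, ← mul_assoc, hD.invol d hd, one_mul]
    _ = v := by rw [hv, this]

theorem separator {d b : Γ} (hd : d ∈ D) (hb : b ∈ D) (hne : d ≠ b) :
    ∃ a ∈ D, (¬ Commute d a ∧ Commute b a) ∨ (Commute d a ∧ ¬ Commute b a) := by
  by_contra hcon
  push Not at hcon
  refine hne (hD.same d hd b hb fun a ha => ⟨fun h => (hcon a ha).2 h, fun h => ?_⟩)
  by_contra h'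
  exact (hcon a ha).1 h' h

theorem inter {d b : Γ} (hd : d ∈ D) (hb : b ∈ D) (hne : d ≠ b) {v : A} (h1 : v ∈ W A d) (h2 : v ∈ W A b) :
    v = 0 := by
  obtain ⟨a, ha, ⟨h, h'⟩ | ⟨h, h'⟩⟩ := hD.separator hd hb hne
  · exact hD.free d hd a ha h v h1 (hD.fix b hb a ha h' v h2)
  · exact hD.free b hb a ha h' v h2 (hD.fix d hd a ha h v h1)

theorem inter' {d b : Γ} (hd : d ∈ D) (hb : b ∈ D) (hne : d ≠ b) (h2 : ∀ a : A, a + a = 0) {v w : A}
    (hv : v ∈ W A d) (hw : w ∈ W A b) (he : v + w = 0) : v = 0 ∧ w = 0 := by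
  have := eq_of_add h2 he
  subst this
  exact ⟨hD.inter hd hb hne hv hw, hD.inter hd hb hne hv hw⟩

theorem card_W {d b : Γ} (hd : d ∈ D) (hb : b ∈ D) : Nat.card (W A d) = Nat.card (W A b) := by
  obtain ⟨g, rfl⟩ := hD.trans d hd b hb
  refine Nat.card_congr (Equiv.subtypeEquiv (MulAction.toPerm g) fun v => ?_)
  simp only [MulAction.toPerm_apply]
  constructor
  · rintro ⟨u, rfl⟩
    refine ⟨g • u, ?_⟩
    rw [smul_add, mul_smul, mul_smul, inv_smul_smul]
  · rintro ⟨u, hu⟩
    refine ⟨g⁻¹ • u, ?_⟩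
    have := congrArg (g⁻¹ • ·) hu
    simp only [inv_smul_smul, smul_add, mul_smul] at this
    exact this

variable [Finite A]

/-- The commutator space of a noncommuting neighbour maps onto that of the element. -/
theorem exists_pre (h2 : ∀ a : A, a + a = 0) {d y : Γ} (hd : d ∈ D) (hy : y ∈ D) (h : ¬ Commute d y) {w : A}
    (hw : w ∈ W A d) : ∃ u ∈ W A y, w = u + d • u := by
  let f : W A y → W A d := fun u => ⟨u.1 + d • u.1, u.1, rfl⟩
  have hinj : Function.Injective f := by
    intro a b hab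
    have hab' : a.1 + d • a.1 = b.1 + d • b.1 := congrArg Subtype.val hab
    have hfix : d • (a.1 + b.1) = a.1 + b.1 := by
      refine eq_of_add h2 ?_
      rw [smul_add]
      calc d • a.1 + d • b.1 + (a.1 + b.1) = (a.1 + d • a.1) + (b.1 + d • b.1) := by abel
        _ = 0 := by rw [hab', h2]
    exact Subtype.ext (eq_of_add h2
      (hD.free y hy d hd (fun hc => h hc.symm) _ (W.add_mem h2 a.2 b.2) hfix))
  have hbij := (Nat.bijective_iff_injective_and_card f).2 ⟨hinj, hD.card_W hy hd⟩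
  obtain ⟨u, hu⟩ := hbij.2 ⟨w, hw⟩
  exact ⟨u.1, u.2, (congrArg Subtype.val hu).symm⟩

/-- The trace-zero elements of a product of noncommuting members. -/
theorem card_tr_zero (h2 : ∀ a : A, a + a = 0) {d y : Γ} (hd : d ∈ D) (hy : y ∈ D) (h : ¬ Commute d y) :
    Nat.card {v : A // tr (d * y) v = 0} = Nat.card (W A d) * Nat.card (W A d) := by
  set t := d * y with ht
  have ht3 : t ^ 3 = 1 := hD.cube d hd y hy h
  refine le_antisymm ?_ ?_
  · rw [← Nat.card_prod]
    refine Nat.card_le_card_of_injective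
      (fun v => ((⟨v.1 + d • v.1, v.1, rfl⟩ : W A d), (⟨t • v.1 + d • t • v.1, t • v.1, rfl⟩ : W A d))) ?_
    intro a b hab
    have hA : a.1 + d • a.1 = b.1 + d • b.1 := congrArg (fun p => (p.1 : A)) hab
    have hB : t • a.1 + d • t • a.1 = t • b.1 + d • t • b.1 := congrArg (fun p => (p.2 : A)) hab
    refine Subtype.ext (eq_of_add h2 ?_)
    set w := a.1 + b.1 with hw
    have hwt : tr t w = 0 := by
      have : tr t w = tr t a.1 + tr t b.1 := by simp only [hw, tr, smul_add]; abel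
      rw [this, a.2, b.2, add_zero]
    have h1 : d • w = w := eq_of_add h2 <| by
      rw [hw, smul_add]
      calc d • a.1 + d • b.1 + (a.1 + b.1) = (a.1 + d • a.1) + (b.1 + d • b.1) := by abel
        _ = 0 := by rw [hA, h2]
    have h1' : d • t • w = t • w := eq_of_add h2 <| by
      rw [hw, smul_add, smul_add]
      calc d • t • a.1 + d • t • b.1 + (t • a.1 + t • b.1) =
          (t • a.1 + d • t • a.1) + (t • b.1 + d • t • b.1) := by abel
        _ = 0 := by rw [hB, h2]
    refine eq_zero_of_fixed h2 hwt ?_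
    have hti : t⁻¹ • w = t • w := by
      rw [← hD.inverts_left hd hy, hD.inv hd, mul_smul, mul_smul, h1, h1']
    have : (t * t * t⁻¹) • w = (t * t * t) • w := by rw [mul_smul, hti, ← mul_smul]
    rw [mul_inv_cancel_right, show t * t * t = (1 : Γ) by rw [← ht3]; simp [pow_succ, mul_assoc], one_smul] at this
    exact this
  · conv_lhs => arg 2; rw [hD.card_W hd hy]
    rw [← Nat.card_prod]
    have hmem : ∀ u ∈ D, (u * t * u⁻¹ = t⁻¹) → (∀ v : A, t • v = v → u • v = v) →
        ∀ v ∈ W A u, tr t v = 0 := by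
      rintro u hu hinv hfixu v ⟨w, rfl⟩
      have : tr t (w + u • w) = tr t w + tr t (u • w) := by simp only [tr, smul_add]; abel
      rw [this, tr_smul_inverting h2 hinv ht3, hfixu _ (smul_tr h2 ht3 w), h2]
    have hl := hmem d hd (hD.inverts_left hd hy) fun v hv => hD.fixed_left h2 hd hy h hv
    have hr := hmem y hy (hD.inverts_right hd hy) fun v hv => hD.fixed_right h2 hd hy h hv
    refine Nat.card_le_card_of_injective
      (fun p : W A d × W A y => (⟨p.1.1 + p.2.1, by
        have : tr t (p.1.1 + p.2.1) = tr t p.1.1 + tr t p.2.1 := by simp only [tr, smul_add]; abel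
        rw [this, hl _ p.1.2, hr _ p.2.2, add_zero]⟩ : {v : A // tr t v = 0})) ?_
    rintro ⟨a, b⟩ ⟨a', b'⟩ hab
    have hab' : a.1 + b.1 = a'.1 + b'.1 := congrArg Subtype.val hab
    obtain ⟨h1, h1'⟩ := hD.inter' hd hy (hD.ne_of_not_commute hd h) h2 (W.add_mem h2 a.2 a'.2)
      (W.add_mem h2 b.2 b'.2) (by
        calc a.1 + a'.1 + (b.1 + b'.1) = (a.1 + b.1) + (a'.1 + b'.1) := by abel
          _ = 0 := by rw [hab', h2])
    exact Prod.ext (Subtype.ext (eq_of_add h2 h1)) (Subtype.ext (eq_of_add h2 h1'))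

end Transp

end Cfsg.Lib.TTUnique
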