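import Cfsg.Agent.ThreeTransposition.Unique.Base

/-!
Two generating classes of 3-transpositions with the same 2-radical have the same image.
-/

set_option autoImplicit false

namespace Cfsg.Lib.TTUnique

variable {Γ A : Type*} [Group Γ] [AddCommGroup A] [DistribMulAction Γ A] [FaithfulSMul Γ A] [Finite A]

namespace Transp

variable {D E : Set Γ}

theorem tr_add (g : Γ) (u v : A) : tr g (u + v) = tr g u + tr g v := by simp only [tr, smul_add]; abel

omit [FaithfulSMul Γ A] [Finite A] in
theorem commute_conj_iff {x : Γ} (a b : Γ) : Commute (x * a * x⁻¹) (x * b * x⁻¹) ↔ Commute a b :=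
  ⟨fun h => by
    have := h.map (MulAut.conj x⁻¹)
    simpa [mul_assoc] using this, fun h => by simpa using h.map (MulAut.conj x)⟩

omit [FaithfulSMul Γ A] [Finite A] in
theorem commute_iff_conj_eq {d e : Γ} (he : e * e = 1) : Commute e d ↔ e * d * e = d := by
  constructor
  · intro h; rw [h.eq, mul_assoc, he, mul_one]
  · intro h
    show e * d = d * e
    conv_rhs => rw [← h, mul_assoc, he, mul_one]

/-- If two commuting members are exchanged by a member of another class, its space lies in their sum. -/
theorem subset_W (h2 : ∀ a : A, a + a = 0) (hD : Transp A D) (hE : Transp A E) {d e : Γ} (hd : d ∈ D)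
    (he : e ∈ E) (hne : e * d * e ≠ d) (hc : Commute d (e * d * e)) {w : A} (hw : w ∈ W A e) :
    ∃ α ∈ W A d, ∃ β ∈ W A (e * d * e), w = α + β := by
  have ee := hE.invol e he
  have dd := hD.invol d hd
  have hb : e * d * e ∈ D := hD.conj' ee hd
  have he' : d * e * d ∈ E := hE.conj' dd he
  have hprod : e * (d * e * d) = (e * d * e) * d := by simp only [mul_assoc]
  have hne' : e ≠ d * e * d := by
    intro h
    refine hne ?_
    have : e * d = d * e := by
      conv_lhs => rw [h]
      rw [mul_assoc (d * e), dd, mul_one]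
    rw [this, mul_assoc, ee, mul_one]
  obtain ⟨f, hf, hfe, hfe'⟩ : ∃ f ∈ E, ¬ Commute e f ∧ Commute (d * e * d) f := by
    obtain ⟨f, hf, ⟨h, h'⟩ | ⟨h, h'⟩⟩ := hE.separator he he' hne'
    · exact ⟨f, hf, h, h'⟩
    · refine ⟨d * f * d, hE.conj' dd hf, ?_, ?_⟩
      · intro hh
        refine h' ?_
        have := (commute_conj_iff (x := d) _ _).2 hh
        rw [hD.inv hd] at this
        simpa [← mul_assoc, dd, mul_assoc _ d d] using this
      · have := (commute_conj_iff (x := d) _ _).2 h
        rwa [hD.inv hd] at this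
  obtain ⟨u, hu, rfl⟩ := hE.exists_pre h2 he hf hfe hw
  have hfix : (d * e * d) • u = u := hE.fix f hf _ he' hfe'.symm u hu
  refine ⟨d • u + u, ⟨u, add_comm _ _⟩, d • u + (e * d * e) • d • u, ⟨d • u, rfl⟩, ?_⟩
  have h1 : e • u = (e * d * e) • d • u := by
    conv_lhs => rw [← hfix]
    rw [← mul_smul, hprod, mul_smul]
  rw [h1]
  calc u + (e * d * e) • d • u = u + (e * d * e) • d • u + (d • u + d • u) := by rw [h2, add_zero]
    _ = _ := by abel

omit [Finite A] in
theorem W_ne (h2 : ∀ a : A, a + a = 0) (hD : Transp A D) {d : Γ} (hd : d ∈ D) : ∃ v ∈ W A d, v ≠ 0 := by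
  by_contra hcon
  push Not at hcon
  refine hD.ne_one d hd (eq_of_smul_eq_smul fun v : A => ?_)
  rw [one_smul]
  exact (eq_of_add h2 (hcon _ ⟨v, rfl⟩)).symm

/-- In the configuration of a moved member, the third member of its line and the moving element share a
vector. -/
theorem exists_common_vector (h2 : ∀ a : A, a + a = 0) (hD : Transp A D) (hE : Transp A E) {p a f : Γ}
    (hp : p ∈ D) (ha : a ∈ D) (hf : f ∈ E) (hpa : ¬ Commute p a) (hne : p ≠ f) (hfp : f * p * f = p)
    (hft : f * (p * a) * f = (p * a)⁻¹) (hffix : ∀ v : A, (p * a) • v = v → f • v = v) :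
    ∃ z : A, z ≠ 0 ∧ z ∈ W A p ∧ z ∈ W A f := by
  by_contra hcon
  push Not at hcon
  set t := p * a with ht
  have ff := hE.invol f hf
  have pp := hD.invol p hp
  have hc : Commute f p := (commute_iff_conj_eq ff).2 hfp
  have ht3 : t ^ 3 = 1 := hD.cube p hp a ha hpa
  have hinv : f * t * f⁻¹ = t⁻¹ := by rw [hE.inv hf]; exact hft
  have hpinv : p * t * p⁻¹ = t⁻¹ := hD.inverts_left hp ha
  have hzero : ∀ u : A, (u + f • u) + p • (u + f • u) = 0 := by
    intro u
    by_contra hz
    refine hcon _ hz ⟨u + f • u, rfl⟩ ⟨u + p • u, ?_⟩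
    rw [smul_add, smul_add, ← mul_smul, ← mul_smul, hc.eq]
    abel
  set n : A → A := fun u => u + (p * f) • u with hn
  have hpn : ∀ u, p • n u = n u := by
    intro u
    refine eq_of_add h2 ?_
    rw [← hzero u]
    simp only [hn, smul_add, ← mul_smul, ← mul_assoc, pp, one_mul]
    abel
  have hct : Commute (p * f) t := by
    show p * f * t = t * (p * f)
    have h1 : f * t = t⁻¹ * f := by rw [← hinv]; group
    have h2' : p * t⁻¹ = t * p := by
      rw [← hpinv, hD.inv hp, ← mul_assoc, ← mul_assoc, pp, one_mul]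
    rw [mul_assoc, h1, ← mul_assoc, h2', mul_assoc]
  have hnt : ∀ u, n (t • u) = t • n u := by
    intro u; simp only [hn, smul_add, ← mul_smul, hct.eq]
  have htn : ∀ u, t • n u = n u := by
    intro u
    have e1 : p • t • n u = t⁻¹ • n u := by
      conv_rhs => rw [← hpinv]
      simp only [mul_smul]
      rw [hD.inv hp, hpn]
    have e2 : t⁻¹ • n u = t • n u := by rw [← e1, ← hnt, hpn]
    have e3 : n u = t • t • n u := by
      rw [← e2, smul_inv_smul]
    have e4 : t • n u = t • t • t • n u := congrArg (t • ·) e3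
    have e5 : t • t • t • n u = n u := by
      rw [← mul_smul, ← mul_smul, show t * t * t = (1 : Γ) by rw [← ht3]; simp [pow_succ, mul_assoc], one_smul]
    rw [e4, e5]
  refine hne ?_
  have hpf : p * f = 1 := by
    refine eq_of_smul_eq_smul fun u : A => ?_
    rw [one_smul]
    have h1 : n (tr t u) = 0 := by
      have := smul_tr h2 ht3 u
      rw [hn]
      simp only [mul_smul, hffix _ this, hD.fixed_left h2 hp ha hpa this, h2]
    have h3 : n (tr t u) = tr t (n u) := by
      simp only [tr, hn, smul_add, ← mul_smul]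
      rw [hct.eq, (hct.mul_right hct).eq]
      simp only [mul_assoc]
      abel
    rw [h3, tr_fixed_eq h2 (htn u)] at h1
    exact (eq_of_add h2 h1).symm
  rw [mul_eq_one_iff_eq_inv.1 hpf, hE.inv hf]

/-- No member fixed by the moving element fails to commute with the third member of the line. -/
theorem no_plane (h2 : ∀ a : A, a + a = 0) (hD : Transp A D) (hE : Transp A E) {a f q : Γ} (ha : a ∈ D)
    (hf : f ∈ E) (hnc : ¬ Commute a (f * a * f)) (hq : q ∈ D) (hqf : f * q * f = q)
    (hqp : ¬ Commute (a * (f * a * f) * a) q) : False := by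
  have ff := hE.invol f hf
  have aa := hD.invol a ha
  set a' := f * a * f with ha'def
  have ha' : a' ∈ D := hD.conj' ff ha
  set p := a * a' * a with hpdef
  have hp : p ∈ D := hD.conj' aa ha'
  have pp := hD.invol p hp
  have qq := hD.invol q hq
  have hfa' : f * a' * f = a := by
    rw [ha'def]; simp only [← mul_assoc, ff, one_mul]; rw [mul_assoc, ff, mul_one]
  have hfp : f * p * f = p := by
    calc f * p * f = (f * a * f) * (f * a' * f) * (f * a * f) := by
          rw [hpdef]; simp only [← mul_assoc]; simp only [mul_assoc _ f f, ff, mul_one]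
      _ = a' * a * a' := by rw [hfa', ← ha'def]
      _ = p := (hD.braid ha ha' hnc).symm
  have hta : p * a = a * a' := by rw [hpdef, mul_assoc, aa, mul_one]
  have hpap : p * a * p = a' := by
    rw [hta, hpdef, hD.braid ha ha' hnc]
    calc a * a' * (a' * a * a') = a * (a' * a') * a * a' := by simp only [mul_assoc]
      _ = a' := by rw [hD.invol a' ha', mul_one, aa, one_mul]
  have hpa : ¬ Commute p a := fun h => hnc (by
    have := hpap; rw [h.eq, mul_assoc, pp, mul_one] at this; rw [← this])
  have hfq : Commute f q := (commute_iff_conj_eq ff).2 hqf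
  -- a fixed member off the line meets no moved member
  have hoff : ∀ r ∈ D, f * r * f = r → ¬ Commute p r → ¬ Commute r a := by
    intro r hr hrf hrp h
    refine hrp ?_
    have h' : Commute r a' := by
      have := (commute_conj_iff (x := f) _ _).2 h
      rwa [hE.inv hf, hrf, ← ha'def] at this
    rw [hpdef]
    exact ((h.mul_right h').mul_right h).symm
  set b := p * q * p with hbdef
  have hb : b ∈ D := hD.conj' pp hq
  have hbf : f * b * f = b := by
    calc f * b * f = (f * p * f) * (f * q * f) * (f * p * f) := by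
          rw [hbdef]; simp only [← mul_assoc]; simp only [mul_assoc _ f f, ff, mul_one]
      _ = b := by rw [hfp, hqf]
  have hbp : ¬ Commute p b := fun h => hqp (by
    have := (commute_conj_iff (x := p) _ _).2 h
    rw [hD.inv hp, hbdef] at this
    simpa [← mul_assoc, pp, mul_assoc _ p p] using this)
  have hqa := hoff q hq hqf hqp
  have hba := hoff b hb hbf hbp
  obtain ⟨x, hxdef⟩ : ∃ x, x = p * q := ⟨_, rfl⟩
  obtain ⟨t, htdef⟩ : ∃ t, t = p * a := ⟨_, rfl⟩
  have x3 : x ^ 3 = 1 := hxdef ▸ hD.cube p hp q hq hqp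
  have t3 : t ^ 3 = 1 := htdef ▸ hD.cube p hp a ha hpa
  have exit : x * t = b * a := by rw [hxdef, htdef, hbdef]; simp only [mul_assoc]
  have exit' : x⁻¹ * t = q * a := by
    rw [hxdef, htdef, mul_inv_rev, hD.inv hp, hD.inv hq, mul_assoc, ← mul_assoc p p a, pp, one_mul]
  obtain ⟨hsx, hst, hs3⟩ := heisenberg x3 t3 (by rw [exit]; exact hD.cube b hb a ha hba)
    (by rw [exit']; exact hD.cube q hq a ha hqa)
  set s := x⁻¹ * t⁻¹ * x * t with hsdef
  have hti : t⁻¹ = a * p := by rw [htdef, mul_inv_rev, hD.inv hp, hD.inv ha]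
  have hfx : f * x * f = x := by
    calc f * x * f = (f * p * f) * (f * q * f) := by
          rw [hxdef]; simp only [← mul_assoc]; simp only [mul_assoc _ f f, ff, mul_one]
      _ = x := by rw [hfp, hqf, ← hxdef]
  have hftt : f * t * f = t⁻¹ := by
    calc f * t * f = (f * p * f) * (f * a * f) := by
          rw [htdef]; simp only [← mul_assoc]; simp only [mul_assoc _ f f, ff, mul_one]
      _ = p * (p * a * p) := by rw [hfp, hpap, ha'def]
      _ = t⁻¹ := by rw [hti]; simp only [← mul_assoc, pp, one_mul]
  have hxs : x * t = t * x * s := by rw [hsdef]; group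
  have hpx : p * x * p⁻¹ = x⁻¹ := hxdef ▸ hD.inverts_left hp hq
  have hpt : p * t * p⁻¹ = t⁻¹ := htdef ▸ hD.inverts_left hp ha
  have hps : Commute p s := by
    have h1 : p * s * p⁻¹ = s := by
      calc p * s * p⁻¹ = (p * x * p⁻¹)⁻¹ * (p * t * p⁻¹)⁻¹ * (p * x * p⁻¹) * (p * t * p⁻¹) := by
            rw [hsdef]; group
        _ = x * t * x⁻¹ * t⁻¹ := by rw [hpx, hpt, inv_inv, inv_inv]
        _ = (t * x) * s * (t * x)⁻¹ := by rw [hxs]; group
        _ = s := by rw [← (hst.mul_right hsx).eq]; group
    show p * s = s * p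
    conv_rhs => rw [← h1]
    group
  have hfs : f * s * f⁻¹ = s⁻¹ := by
    rw [hE.inv hf]
    have : f * s * f = (f * x * f)⁻¹ * (f * t * f)⁻¹ * (f * x * f) * (f * t * f) := by
      rw [hsdef]; simp only [mul_inv_rev, hE.inv hf, ← mul_assoc]; simp only [mul_assoc _ f f, ff, mul_one]
    rw [this, hfx, hftt, inv_inv]
    have e : t * x * t⁻¹ = x * s⁻¹ := by
      calc t * x * t⁻¹ = (x * t) * s⁻¹ * t⁻¹ := by rw [hxs]; group
        _ = x * (t * s⁻¹) * t⁻¹ := by group
        _ = x * s⁻¹ := by rw [← (hst.inv_left).eq]; group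
    calc x⁻¹ * t * x * t⁻¹ = x⁻¹ * (t * x * t⁻¹) := by group
      _ = s⁻¹ := by rw [e]; group
  by_cases hs1 : s = 1
  · -- the plane is abelian
    have hxt : Commute x t := by show x * t = t * x; rw [hxs, hs1, mul_one]
    have hfpf : ∀ g ∈ D, ∀ k ∈ D, ¬ Commute g k → g ∈ ({p, b, q} : Set Γ) → (k = q ∨ k = a) →
        ∀ v : A, tr t v = 0 → (g * k) • v = v → v = 0 := by
      intro g hg k hk hgk hg' hk' v hv hfix
      have hgv := hD.fixed_left h2 hg hk hgk hfix
      have hkv := hD.fixed_right h2 hg hk hgk hfix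
      have mk : ∀ u ∈ D, u * t * u⁻¹ = t⁻¹ → u • v = v → v ∈ W A u := by
        intro u hu hinv huv
        refine ⟨t • v, ?_⟩
        have : u • t • v = t • t • v := by
          have e : u * t = t⁻¹ * u := by rw [← hinv]; group
          rw [← mul_smul, e, mul_smul, huv, show t⁻¹ = t * t from
            inv_eq_of_mul_eq_one_left (by rw [← t3]; simp [pow_succ, mul_assoc]), mul_smul]
        rw [this]
        refine eq_of_add h2 ?_
        rw [← hv, tr]; abel
      rcases hk' with rfl | rfl
      · have hqt : k * t * k⁻¹ = t⁻¹ := by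
          have hk_eq : k = p * x := by rw [hxdef, ← mul_assoc, pp, one_mul]
          rw [hk_eq]
          calc p * x * t * (p * x)⁻¹ = p * (x * t * x⁻¹) * p⁻¹ := by group
            _ = t⁻¹ := by rw [hxt.eq]; rw [mul_assoc t x, mul_inv_cancel, mul_one, hpt]
        exact hD.free k hk g hg (fun h => hgk h.symm) v (mk k hk hqt hkv) hgv
      · exact hD.free k hk g hg (fun h => hgk h.symm) v (mk k hk (htdef ▸ hD.inverts_right hp hk) hkv) hgv
    obtain ⟨w, hw0, hw⟩ := exists_tr_zero (A := A) h2 t3 (htdef ▸ hD.mul_ne_one hp ha hpa)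
    have stable : ∀ g : Γ, Commute g t → ∀ v : A, tr t v = 0 → tr t (g • v) = 0 := fun g hg v hv => by
      rw [tr_smul h2 hg, hv, smul_zero]
    have kill : ∀ g : Γ, g ^ 3 = 1 → Commute g t → (∀ v : A, tr t v = 0 → g • v = v → v = 0) →
        ∀ v : A, tr t v = 0 → tr g v = 0 := by
      intro g hg hgt hfree v hv
      refine hfree _ ?_ (smul_tr h2 hg v)
      rw [show tr g v = v + g • v + g • g • v from rfl, tr_add, tr_add, hv, stable g hgt v hv,
        stable g hgt _ (stable g hgt v hv), add_zero, add_zero]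
    refine hw0 (eq_zero_of_four h2 t3 x3 hxt hw ?_ ?_ ?_ ?_)
    · exact kill _ (by rw [exit]; exact hD.cube b hb a ha hba) (hxt.mul_left (Commute.refl t))
        (by rw [exit]; exact hfpf b hb a ha hba (by simp) (Or.inr rfl)) w hw
    · exact kill _ (by rw [exit']; exact hD.cube q hq a ha hqa) (hxt.inv_left.mul_left (Commute.refl t))
        (by rw [exit']; exact hfpf q hq a ha hqa (by simp) (Or.inr rfl)) w hw
    · exact kill x x3 hxt (hxdef ▸ hfpf p hp q hq hqp (by simp) (Or.inl rfl)) _ (stable t (Commute.refl t) w hw)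
    · exact kill x x3 hxt (hxdef ▸ hfpf p hp q hq hqp (by simp) (Or.inl rfl)) _
        (stable t (Commute.refl t) _ (stable t (Commute.refl t) w hw))
  · -- the plane is of class two
    have hsi : s⁻¹ = s * s := inv_eq_of_mul_eq_one_left (by rw [← hs3]; simp [pow_succ, mul_assoc])
    set f' := s * f * s⁻¹ with hf'def
    have hf' : f' ∈ E := hE.conj s f hf
    have hff' : f * f' = s := by
      calc f * f' = (f * s * f⁻¹) * (f * f) * s⁻¹ := by rw [hf'def]; group
        _ = s⁻¹ * s⁻¹ := by rw [hfs, ff, mul_one]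
        _ = s := by rw [← mul_inv_rev, ← hsi, inv_inv]
    have hff'nc : ¬ Commute f f' := by
      intro h
      refine hs1 ?_
      have h2s : s * s = 1 := by
        rw [← hff', h.symm.mul_mul_mul_comm, ff, hE.invol f' hf', one_mul]
      have := hs3
      rwa [pow_succ, sq, h2s, one_mul] at this
    have hfv : ∀ v : A, s • v = v → f • v = v := fun v hv =>
      hE.fixed_left h2 hf hf' hff'nc (by rw [hff']; exact hv)
    have hsq : Commute q s := by
      have : q = p * x := by rw [hxdef, ← mul_assoc, pp, one_mul]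
      rw [this]; exact hps.mul_left hsx.symm
    have htM : ∀ v : A, s • v = v → t • v = v := by
      intro v hv
      have h1 : t⁻¹ • v = t • v := by
        rw [← hftt, mul_smul, mul_smul, hfv v hv, hfv (t • v) (by rw [← mul_smul, hst.eq, mul_smul, hv])]
      calc t • v = (t * t * t) • t⁻¹ • t⁻¹ • v := by
            simp only [← mul_smul]; congr 1; group
        _ = t⁻¹ • t⁻¹ • v := by rw [show t * t * t = t ^ 3 by simp [pow_succ, mul_assoc], t3, one_smul]
        _ = v := by rw [h1, inv_smul_smul]
    have hpM : ∀ v : A, s • v = v → p • v = v := fun v hv => hD.fixed_left h2 hp ha hpa (htdef ▸ htM v hv)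
    have hqM : ∀ v : A, s • v = v → q • v = v := by
      intro v hv
      have hsv : s • q • v = q • v := by rw [← mul_smul, ← hsq.eq, mul_smul, hv]
      have e1 : x • v = q • v := by rw [hxdef, mul_smul, hpM _ hsv]
      have e2 : x • x • v = v := by
        rw [e1, hxdef, mul_smul, ← mul_smul q q, qq, one_smul, hpM v hv]
      rw [← e1]
      calc x • v = x • x • x • v := by rw [e2]
        _ = v := by rw [← mul_smul, ← mul_smul, show x * x * x = (1 : Γ) by rw [← x3]; simp [pow_succ, mul_assoc],
            one_smul]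
    have hWN : ∀ u : Γ, Commute u s → (∀ v : A, s • v = v → u • v = v) → ∀ v ∈ W A u, tr s v = 0 := by
      rintro u hu hfix v ⟨w, rfl⟩
      rw [tr_add, tr_smul h2 hu, hfix _ (smul_tr h2 hs3 w), h2]
    have hWp := hWN p hps hpM
    have hWq := hWN q hsq hqM
    -- the two commutator spaces fill the trace-zero part
    let φ : W A p × W A q → {v : A // tr s v = 0} :=
      fun y => ⟨y.1.1 + y.2.1, by rw [tr_add, hWp _ y.1.2, hWq _ y.2.2, add_zero]⟩
    have hφ : Function.Bijective φ := by
      refine (Nat.bijective_iff_injective_and_card φ).2 ⟨?_, ?_⟩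
      · rintro ⟨u, v⟩ ⟨u', v'⟩ huv
        have huv' : u.1 + v.1 = u'.1 + v'.1 := congrArg Subtype.val huv
        obtain ⟨h1, h1'⟩ := hD.inter' hp hq (hD.ne_of_not_commute hp hqp) h2 (W.add_mem h2 u.2 u'.2)
          (W.add_mem h2 v.2 v'.2) (by
            calc u.1 + u'.1 + (v.1 + v'.1) = (u.1 + v.1) + (u'.1 + v'.1) := by abel
              _ = 0 := by rw [huv', h2])
        exact Prod.ext (Subtype.ext (eq_of_add h2 h1)) (Subtype.ext (eq_of_add h2 h1'))
      · have hf'' : a * f * a ∈ E := hE.conj' aa hf
        have heq : a * f * a * f = a * a' := by rw [ha'def]; simp only [mul_assoc]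
        have hnc'' : ¬ Commute (a * f * a) f := by
          intro h
          refine hD.mul_ne_one ha ha' hnc ?_
          have hsq' : (a * a') * (a * a') = 1 := by
            rw [← heq, h.symm.mul_mul_mul_comm, hE.invol _ hf'', ff, one_mul]
          have := hD.cube a ha a' ha' hnc
          rwa [pow_succ, sq, hsq', one_mul] at this
        have c1 := hE.card_tr_zero h2 hf hf' hff'nc
        rw [hff'] at c1
        have c2 := hE.card_tr_zero h2 hf'' hf hnc''
        have c3 := hD.card_tr_zero h2 ha ha' hnc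
        rw [heq, c3] at c2
        rw [Nat.card_prod, c1, hD.card_W hp ha, hD.card_W hq ha, c2, hE.card_W hf'' hf]
    have hxfree : ∀ v : A, tr s v = 0 → x • v = v → v = 0 := by
      intro v hv hxv
      rw [hxdef] at hxv
      have hpv := hD.fixed_left h2 hp hq hqp hxv
      have hqv := hD.fixed_right h2 hp hq hqp hxv
      obtain ⟨⟨u, w⟩, huw⟩ := hφ.2 ⟨v, hv⟩
      have huw' : u.1 + w.1 = v := congrArg Subtype.val huw
      rw [← huw', smul_add, W.smul_self h2 (hD.invol p hp) u.2] at hpv
      rw [← huw', smul_add, W.smul_self h2 (hD.invol q hq) w.2] at hqv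
      have hw0 := hD.free q hq p hp (fun h => hqp h.symm) _ w.2 (add_left_cancel hpv)
      have hu0 := hD.free p hp q hq hqp _ u.2 (add_right_cancel hqv)
      rw [← huw', hu0, hw0, add_zero]
    have htx : ∀ k : Γ, Commute k s → ∀ g : Γ, k * g * k⁻¹ = x → ∀ v : A, tr s v = 0 → g • v = v → v = 0 := by
      intro k hk g hg v hv hgv
      have : k • v = 0 := by
        refine hxfree _ (by rw [tr_smul h2 hk, hv, smul_zero]) ?_
        rw [← hg, mul_smul, mul_smul, inv_smul_smul, hgv]
      rwa [smul_eq_zero_iff_eq] at this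
    have hx1 : ∀ v : A, tr s v = 0 → (s * x) • v = v → v = 0 :=
      htx t hst.symm _ (by
        calc t * (s * x) * t⁻¹ = t * x * s * t⁻¹ := by rw [hsx.eq]; group
          _ = x := by rw [← hxs]; group)
    have hx2 : ∀ v : A, tr s v = 0 → (s⁻¹ * x) • v = v → v = 0 :=
      htx t⁻¹ hst.symm.inv_left _ (by
        calc t⁻¹ * (s⁻¹ * x) * t⁻¹⁻¹ = (t⁻¹ * s⁻¹) * (x * t) := by group
          _ = (s⁻¹ * t⁻¹) * (t * x * s) := by rw [hxs, (hst.symm.inv_inv).eq]
          _ = s⁻¹ * (x * s) := by group
          _ = x := by rw [← hsx.eq]; group)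
    obtain ⟨w, hw0, hw⟩ := exists_tr_zero (A := A) h2 hs3 hs1
    have stable : ∀ g : Γ, Commute g s → ∀ v : A, tr s v = 0 → tr s (g • v) = 0 := fun g hg v hv => by
      rw [tr_smul h2 hg, hv, smul_zero]
    have kill : ∀ g : Γ, g ^ 3 = 1 → Commute g s → (∀ v : A, tr s v = 0 → g • v = v → v = 0) →
        ∀ v : A, tr s v = 0 → tr g v = 0 := by
      intro g hg hgt hfree v hv
      refine hfree _ ?_ (smul_tr h2 hg v)
      rw [show tr g v = v + g • v + g • g • v from rfl, tr_add, tr_add, hv, stable g hgt v hv,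
        stable g hgt _ (stable g hgt v hv), add_zero, add_zero]
    have hsx' : Commute x s := hsx.symm
    refine hw0 (eq_zero_of_four h2 x3 hs3 hsx (kill x x3 hsx' hxfree w hw) ?_ ?_ ?_ ?_)
    · exact kill _ (by rw [hsx.mul_pow, hs3, x3, one_mul]) ((Commute.refl s).mul_left hsx') hx1 w hw
    · exact kill _ (by rw [hsx.inv_left.mul_pow, inv_pow, hs3, x3, inv_one, one_mul])
        ((Commute.refl s).inv_left.mul_left hsx') hx2 w hw
    · exact stable x hsx' w hw
    · exact stable x hsx' _ (stable x hsx' w hw)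

/-- No member is moved by a member of the other class to a noncommuting one. -/
theorem no_line (h2 : ∀ a : A, a + a = 0) (hD : Transp A D) (hE : Transp A E)
    (hgen : Subgroup.closure D = ⊤) (hcen : ∀ c : Γ, c * c = 1 → c ∈ Subgroup.center Γ → c = 1)
    (hdis : ∀ d ∈ D, d ∉ E) {a f : Γ} (ha : a ∈ D) (hf : f ∈ E) (hnc : ¬ Commute a (f * a * f)) : False := by
  have ff := hE.invol f hf
  have data : ∀ a ∈ D, ¬ Commute a (f * a * f) → ∃ p ∈ D, p = a * (f * a * f) * a ∧ f * p * f = p ∧
      f * a * f = p * a * p ∧ (∀ q ∈ D, Commute p q ↔ f * q * f = q) ∧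
      ∃ z : A, z ≠ 0 ∧ z ∈ W A p ∧ z ∈ W A f := by
    intro a ha hnc
    have aa := hD.invol a ha
    set a' := f * a * f with ha'def
    have ha' : a' ∈ D := hD.conj' ff ha
    set p := a * a' * a with hpdef
    have hp : p ∈ D := hD.conj' aa ha'
    have pp := hD.invol p hp
    have hfa' : f * a' * f = a := by
      rw [ha'def]; simp only [← mul_assoc, ff, one_mul]; rw [mul_assoc, ff, mul_one]
    have hfp : f * p * f = p := by
      calc f * p * f = (f * a * f) * (f * a' * f) * (f * a * f) := by
            rw [hpdef]; simp only [← mul_assoc]; simp only [mul_assoc _ f f, ff, mul_one]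
        _ = a' * a * a' := by rw [hfa', ← ha'def]
        _ = p := (hD.braid ha ha' hnc).symm
    have hta : p * a = a * a' := by rw [hpdef, mul_assoc, aa, mul_one]
    have hpap : p * a * p = a' := by
      rw [hta, hpdef, hD.braid ha ha' hnc]
      calc a * a' * (a' * a * a') = a * (a' * a') * a * a' := by simp only [mul_assoc]
        _ = a' := by rw [hD.invol a' ha', mul_one, aa, one_mul]
    have hpa : ¬ Commute p a := fun h => hnc (by
      have := hpap; rw [h.eq, mul_assoc, pp, mul_one] at this; rw [← this])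
    have hne : p ≠ f := fun h => hdis p hp (h ▸ hf)
    have heq : a * f * a * f = a * a' := by rw [ha'def]; simp only [mul_assoc]
    have hnc'' : ¬ Commute (a * f * a) f := by
      intro h
      refine hD.mul_ne_one ha ha' hnc ?_
      have hsq' : (a * a') * (a * a') = 1 := by
        rw [← heq, h.symm.mul_mul_mul_comm, hE.invol _ (hE.conj' aa hf), ff, one_mul]
      have := hD.cube a ha a' ha' hnc
      rwa [pow_succ, sq, hsq', one_mul] at this
    have hft : f * (p * a) * f = (p * a)⁻¹ := by
      rw [hta, mul_inv_rev, hD.inv ha', hD.inv ha]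
      calc f * (a * a') * f = (f * a * f) * (f * a' * f) := by
            simp only [← mul_assoc]; simp only [mul_assoc _ f f, ff, mul_one]
        _ = a' * a := by rw [hfa', ← ha'def]
    have hffix : ∀ v : A, (p * a) • v = v → f • v = v := fun v hv =>
      hE.fixed_right h2 (hE.conj' aa hf) hf hnc'' (by rw [heq, ← hta]; exact hv)
    obtain ⟨z, hz0, hzp, hzf⟩ := exists_common_vector h2 hD hE hp ha hf hpa hne hfp hft hffix
    refine ⟨p, hp, rfl, hfp, hpap.symm, fun q hq => ⟨fun hpq => ?_, fun hqf => ?_⟩, z, hz0, hzp, hzf⟩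
    · -- members commuting with `p` fix the common vector
      have qq := hD.invol q hq
      have hqz : q • z = z := hD.fix p hp q hq hpq z hzp
      have hf2 : q * f * q ∈ E := hE.conj' qq hf
      have hz2 : z ∈ W A (q * f * q) := by
        obtain ⟨u, hu⟩ := hzf
        refine ⟨q • u, ?_⟩
        have : (q * f * q) • q • u = q • f • u := by
          rw [← mul_smul, ← mul_smul]; congr 1
          rw [mul_assoc (q * f), qq, mul_one]
        rw [this, ← smul_add, ← hu, hqz]
      by_cases hc : Commute f (q * f * q)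
      · by_cases he : f = q * f * q
        · refine (commute_iff_conj_eq ff).1 ?_
          show f * q = q * f
          conv_lhs => rw [he]
          rw [mul_assoc (q * f), qq, mul_one]
        · exact absurd (hE.inter hf hf2 he hzf hz2) hz0
      · exact absurd (hE.free f hf _ hf2 hc z hzf (W.smul_self h2 (hE.invol _ hf2) hz2)) hz0
    · by_contra hqp
      exact no_plane h2 hD hE ha hf hnc hq hqf hqp
  obtain ⟨p, hp, -, hfp, -, hperp, z, hz0, hzp, hzf⟩ := data a ha hnc
  have pp := hD.invol p hp
  have hpf : Commute f p := (commute_iff_conj_eq ff).2 hfp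
  have hall : ∀ q ∈ D, Commute q (p * f) := by
    intro q hq
    have qq := hD.invol q hq
    by_cases hc : Commute p q
    · exact hc.symm.mul_right ((commute_iff_conj_eq ff).2 ((hperp q hq).1 hc)).symm
    · have hmoved : f * q * f ≠ q := fun h => hc ((hperp q hq).2 h)
      by_cases hc' : Commute q (f * q * f)
      · exfalso
        obtain ⟨α, hα, β, hβ, hzab⟩ := subset_W h2 hD hE hq hf hmoved hc' hzf
        refine hz0 (hD.free p hp q hq hc z hzp ?_)
        rw [hzab, smul_add, W.smul_self h2 qq hα, hD.fix _ (hD.conj' ff hq) q hq hc'.symm β hβ]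
      · obtain ⟨p₂, hp₂, -, -, hq', hperp₂, -⟩ := data q hq hc'
        have : p = p₂ := hD.same p hp p₂ hp₂ fun r hr => (hperp r hr).trans (hperp₂ r hr).symm
        subst this
        show q * (p * f) = p * f * q
        calc q * (p * f) = p * (p * q * p) * f := by simp only [← mul_assoc, pp, one_mul]
          _ = p * (f * q * f) * f := by rw [hq']
          _ = p * f * q := by simp only [mul_assoc, ff, mul_one]
  refine hdis p hp ?_
  have hpf1 : p * f = 1 := by
    refine hcen _ (by rw [hpf.mul_mul_mul_comm, pp, ff, one_mul]) ?_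
    rw [Subgroup.mem_center_iff]
    intro g
    have hg : g ∈ Subgroup.centralizer ({p * f} : Set Γ) := by
      have hle : Subgroup.closure D ≤ Subgroup.centralizer ({p * f} : Set Γ) := by
        rw [Subgroup.closure_le]
        intro q hq
        rw [SetLike.mem_coe, Subgroup.mem_centralizer_singleton_iff]
        exact (hall q hq).eq
      exact hle (hgen ▸ Subgroup.mem_top g)
    rw [Subgroup.mem_centralizer_singleton_iff] at hg
    exact hg
  rwa [mul_eq_one_iff_eq_inv.1 hpf1, hE.inv hf]

/-- The two classes meet. -/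
theorem meet (h2 : ∀ a : A, a + a = 0) (hD : Transp A D) (hE : Transp A E)
    (hgen : Subgroup.closure D = ⊤) (hcen : ∀ c : Γ, c * c = 1 → c ∈ Subgroup.center Γ → c = 1)
    (hEne : E.Nonempty) : ∃ d ∈ D, d ∈ E := by
  by_contra hcon
  push Not at hcon
  obtain ⟨e, he⟩ := hEne
  have ee := hE.invol e he
  have hline : ∀ d ∈ D, Commute d (e * d * e) := fun d hd => by
    by_contra h
    exact no_line h2 hD hE hgen hcen hcon hd he h
  have hall : ∀ d ∈ D, e * d * e = d := by
    intro d hd
    by_contra hne
    have dd := hD.invol d hd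
    have hb : e * d * e ∈ D := hD.conj' ee hd
    obtain ⟨a, ha, had, hab⟩ : ∃ a ∈ D, ¬ Commute d a ∧ Commute (e * d * e) a := by
      obtain ⟨a, ha, ⟨h, h'⟩ | ⟨h, h'⟩⟩ := hD.separator hd hb (Ne.symm hne)
      · exact ⟨a, ha, h, h'⟩
      · refine ⟨e * a * e, hD.conj' ee ha, ?_, ?_⟩
        · intro hh
          refine h' ?_
          have := (commute_conj_iff (x := e) _ _).2 hh
          rw [hE.inv he] at this
          simpa [← mul_assoc, ee, mul_assoc _ e e] using this
        · have := (commute_conj_iff (x := e) _ _).2 h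
          rwa [hE.inv he] at this
    have hea : e * a * e ≠ a := by
      intro h
      refine had ?_
      have := (commute_conj_iff (x := e) _ _).2 hab
      rw [hE.inv he, h] at this
      simpa [← mul_assoc, ee, mul_assoc _ e e] using this
    obtain ⟨v, hv, hv0⟩ := W_ne h2 hD hd
    refine hv0 (hD.free d hd a ha had v hv ?_)
    obtain ⟨α, hα, β, hβ, hab'⟩ := subset_W h2 hD hE ha he hea (hline a ha) (w := v + e • v) ⟨v, rfl⟩
    have hfix : a • (v + e • v) = v + e • v := by
      rw [hab', smul_add, W.smul_self h2 (hD.invol a ha) hα, hD.fix _ (hD.conj' ee ha) a ha (hline a ha).symm β hβ]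
    have hev : e • v ∈ W A (e * d * e) := by
      obtain ⟨u, rfl⟩ := hv
      refine ⟨e • u, ?_⟩
      rw [smul_add, ← mul_smul, ← mul_smul, mul_assoc (e * d), ee, mul_one]
    rw [smul_add, hD.fix _ hb a ha hab _ hev] at hfix
    exact add_right_cancel hfix
  refine hE.ne_one e he (hcen e ee ?_)
  rw [Subgroup.mem_center_iff]
  intro g
  have hle : Subgroup.closure D ≤ Subgroup.centralizer ({e} : Set Γ) := by
    rw [Subgroup.closure_le]
    intro q hq
    rw [SetLike.mem_coe, Subgroup.mem_centralizer_singleton_iff]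
    exact ((commute_iff_conj_eq ee).2 (hall q hq)).symm.eq
  have hg := hle (hgen ▸ Subgroup.mem_top g)
  rw [Subgroup.mem_centralizer_singleton_iff] at hg
  exact hg

end Transp

end Cfsg.Lib.TTUnique
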